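import Mathlib.Algebra.Group.ForwardDiff
import Mathlib.Combinatorics.Enumerative.Stirling
import Mathlib.Tactic

namespace Groth.Agent.H25Misc

open Finset fwdDiff in
/-- Alternating binomial sums of powers are `n! * S(k, n)`. -/
theorem altSum_pow_eq_stirling (n k : ℕ) :
    (∑ j ∈ Finset.range (n + 1), (-1 : ℤ) ^ (n - j) * (n.choose j : ℤ) * (j : ℤ) ^ k) =
      (n.factorial * Nat.stirlingSecond k n : ℕ) := by
  induction k generalizing n with
  | zero =>
    rcases n with _ | n
    · simp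
    · have := (add_pow (1 : ℤ) (-1) (n + 1))
      simp only [add_neg_cancel, zero_pow (Nat.succ_ne_zero n), one_pow, one_mul] at this
      simp [pow_zero, ← this]
  | succ k ih =>
    rcases n with _ | n
    · simp
    · have hΔ : ∀ (N : ℕ) (y : ℤ), Δ_[(1:ℤ)]^[N] (fun x : ℤ => x ^ k) y =
          ∑ j ∈ Finset.range (N + 1), (-1 : ℤ) ^ (N - j) * (N.choose j : ℤ) * (y + j) ^ k := by
        intro N y
        simp [fwdDiff_iter_eq_sum_shift, smul_eq_mul]
      have hrec := congrFun (Function.iterate_succ_apply' (fwdDiff (1:ℤ)) n (fun x : ℤ => x ^ k)) 0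
      simp only [fwdDiff, zero_add] at hrec
      change Δ_[(1:ℤ)]^[n+1] (fun x : ℤ => x ^ k) 0 = Δ_[(1:ℤ)]^[n] (fun x : ℤ => x ^ k) 1 - Δ_[(1:ℤ)]^[n] (fun x : ℤ => x ^ k) 0 at hrec
      simp only [hΔ, zero_add] at hrec
      rw [ih, ih] at hrec
      rw [Finset.sum_range_succ']
      simp only [Nat.cast_zero, zero_pow (Nat.succ_ne_zero k), mul_zero, add_zero]
      have hterm : ∀ j ∈ Finset.range (n + 1), (-1 : ℤ) ^ (n + 1 - (j + 1)) * ((n + 1).choose (j + 1) : ℤ) * ((j + 1 : ℕ) : ℤ) ^ (k + 1)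
          = ((n : ℤ) + 1) * ((-1 : ℤ) ^ (n - j) * (n.choose j : ℤ) * (1 + (j : ℤ)) ^ k) := by
        intro j _
        rw [Nat.add_sub_add_right]
        have h : ((n + 1).choose (j + 1) : ℤ) * ((j : ℤ) + 1) = ((n : ℤ) + 1) * (n.choose j : ℤ) := by
          exact_mod_cast (Nat.add_one_mul_choose_eq n j).symm
        push_cast
        linear_combination (-1 : ℤ) ^ (n - j) * ((j : ℤ) + 1) ^ k * h
      rw [Finset.sum_congr rfl hterm, ← Finset.mul_sum, Nat.stirlingSecond_succ_succ, Nat.factorial_succ]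
      push_cast at hrec ⊢
      rw [Nat.factorial_succ] at hrec
      push_cast at hrec
      linear_combination -((n : ℤ) + 1) * hrec

end Groth.Agent.H25Misc
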